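import Mathlib.LinearAlgebra.Finsupp.LinearCombination
import Mathlib.LinearAlgebra.Pi
import Mathlib.LinearAlgebra.StdBasis
import Mathlib.RingTheory.LocalRing.MaximalIdeal.Basic
import Mathlib.RingTheory.LocalRing.Basic
import Mathlib.Algebra.Module.Submodule.Bilinear
import Mathlib.Tactic.LinearCombination
import Mathlib.Tactic.Ring

/-!
# Number of generators of the first Koszul homology

For a finite family `x : ι → A` the module of relations `cyc x = {a | ∑ a i * x i = 0}` contains the
trivial relations `bd x`.  `Gen x r` says that `cyc x` is generated by `bd x` and `r` elements.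
* `Gen.option_iff`: adding to `x` an element of the ideal generated by `x` adds one to `r`
  (`A` local, `x` in the maximal ideal);
* `gen_transfer`: for two finite families generating the same proper ideal, `r - #ι` is the same.
-/

set_option autoImplicit false
set_option linter.unusedSectionVars false

namespace Groth.Agent.Sga2lef.H76.KosGen

open Submodule

variable {A : Type*} [CommRing A] {ι : Type*} [Fintype ι] [DecidableEq ι]
  {κ : Type*} [Fintype κ] [DecidableEq κ]

/-- Relations. -/
def cyc (x : ι → A) : Submodule A (ι → A) where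
  carrier := {a | ∑ i, a i * x i = 0}
  add_mem' {a b} ha hb := by
    simp only [Set.mem_ofPred_eq, Pi.add_apply, add_mul, Finset.sum_add_distrib] at *
    rw [ha, hb, add_zero]
  zero_mem' := by simp
  smul_mem' c a ha := by
    simp only [Set.mem_ofPred_eq, Pi.smul_apply, smul_eq_mul, mul_assoc, ← Finset.mul_sum] at *
    rw [ha, mul_zero]

theorem mem_cyc (x : ι → A) (a : ι → A) : a ∈ cyc x ↔ ∑ i, a i * x i = 0 := Iff.rfl

/-- Trivial relation. -/
def triv (x : ι → A) (i j : ι) : ι → A := Pi.single i (x j) - Pi.single j (x i)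

/-- Trivial relations. -/
def bd (x : ι → A) : Submodule A (ι → A) := span A {a | ∃ i j, a = triv x i j}

theorem triv_mem_bd (x : ι → A) (i j : ι) : triv x i j ∈ bd x := subset_span ⟨i, j, rfl⟩

theorem sum_single_mul (x : ι → A) (i : ι) (c : A) :
    ∑ k, (Pi.single i c : ι → A) k * x k = c * x i := by
  rw [Finset.sum_eq_single i]
  · rw [Pi.single_eq_same]
  · intro b _ hb
    rw [Pi.single_eq_of_ne hb, zero_mul]
  · simp

theorem bd_le_cyc (x : ι → A) : bd x ≤ cyc x := by
  refine span_le.2 ?_
  rintro _ ⟨i, j, rfl⟩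
  simp only [SetLike.mem_coe, mem_cyc, triv, Pi.sub_apply, sub_mul, Finset.sum_sub_distrib,
    sum_single_mul]
  ring

/-- The ideal generated by `x` kills the first Koszul homology. -/
theorem smul_mem_bd (x : ι → A) {a : ι → A} (ha : a ∈ cyc x) {c : A}
    (hc : c ∈ Ideal.span (Set.range x)) : c • a ∈ bd x := by
  induction hc using span_induction with
  | zero => simp
  | add c d _ _ hc hd => rw [add_smul]; exact add_mem hc hd
  | smul r c _ hc => rw [smul_eq_mul, mul_smul]; exact smul_mem _ _ hc
  | mem c h =>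
    obtain ⟨j, rfl⟩ := h
    have h1 : x j • a = ∑ i, a i • triv x i j := by
      have h2 : ∑ i, a i • triv x i j = ∑ i, (Pi.single i (a i * x j) : ι → A) -
          ∑ i, (Pi.single j (a i * x i) : ι → A) := by
        rw [← Finset.sum_sub_distrib]
        refine Finset.sum_congr rfl fun i _ => ?_
        rw [triv, smul_sub, ← Pi.single_smul, ← Pi.single_smul]
        rfl
      have h3 : ∑ i, (Pi.single j (a i * x i) : ι → A) = 0 := by
        have h4 : ∑ i, (Pi.single j (a i * x i) : ι → A) =
            LinearMap.single A (fun _ : ι => A) j (∑ i, a i * x i) := by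
          rw [map_sum]
          rfl
        rw [h4, (mem_cyc x a).1 ha, map_zero]
      rw [h2, h3, sub_zero]
      ext k
      rw [Finset.sum_apply, Finset.sum_eq_single k]
      · simp [mul_comm]
      · intro b _ hb
        rw [Pi.single_eq_of_ne (Ne.symm hb)]
      · simp
    rw [h1]
    exact sum_mem fun i _ => smul_mem _ _ (triv_mem_bd x i j)

/-- Relations are generated by the trivial ones and `r` more. -/
def Gen (x : ι → A) (r : ℕ) : Prop :=
  ∃ s : Fin r → ι → A, (∀ l, s l ∈ cyc x) ∧ cyc x ≤ bd x ⊔ span A (Set.range s)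

theorem Gen.equiv (e : ι ≃ κ) {x : κ → A} {r : ℕ} (h : Gen (x ∘ e) r) : Gen x r := by
  obtain ⟨s, hs, hle⟩ := h
  let E : (ι → A) ≃ₗ[A] (κ → A) := LinearEquiv.funCongrLeft A A e.symm
  have hE : ∀ a : ι → A, ∀ k, E a k = a (e.symm k) := fun a k => rfl
  have hE' : ∀ a : ι → A, E a ∈ cyc x ↔ a ∈ cyc (x ∘ e) := by
    intro a
    rw [mem_cyc, mem_cyc, ← Equiv.sum_comp e]
    simp [hE]
  have hbd : (bd (x ∘ e)).map (E : (ι → A) →ₗ[A] (κ → A)) ≤ bd x := by
    rw [bd, map_span_le]
    rintro _ ⟨i, j, rfl⟩
    have : (E : (ι → A) →ₗ[A] (κ → A)) (triv (x ∘ e) i j) = triv x (e i) (e j) := by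
      ext k
      simp only [LinearEquiv.coe_coe, hE, triv, Pi.sub_apply, Function.comp_apply, Pi.single_apply,
        Equiv.symm_apply_eq]
    rw [this]
    exact triv_mem_bd _ _ _
  refine ⟨fun l => E (s l), fun l => (hE' _).2 (hs l), fun a ha => ?_⟩
  obtain ⟨b, rfl⟩ := E.surjective a
  have hb := hle ((hE' b).1 ha)
  have h2 : E b ∈ (bd (x ∘ e) ⊔ span A (Set.range s)).map (E : (ι → A) →ₗ[A] (κ → A)) :=
    mem_map_of_mem hb
  rw [Submodule.map_sup, map_span, ← Set.range_comp] at h2
  exact sup_le_sup_right hbd _ h2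

/-- The family `x` with an extra element. -/
def opt (x : ι → A) (y : A) : Option ι → A := fun o => o.elim y x

/-- Extension of a vector. -/
def ext0 (a : ι → A) (b : A) : Option ι → A := fun o => o.elim b a

theorem sum_opt (x : ι → A) (y : A) (a : Option ι → A) :
    ∑ o, a o * opt x y o = a none * y + ∑ i, a (some i) * x i := by
  rw [Fintype.sum_option]
  rfl

theorem mem_cyc_opt (x : ι → A) (y : A) (a : Option ι → A) :
    a ∈ cyc (opt x y) ↔ a none * y + ∑ i, a (some i) * x i = 0 := by
  rw [mem_cyc, sum_opt]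

section Step

variable (x : ι → A) (y : A) (c : ι → A)

/-- Shear: `a ↦ (a i + a none * c i)_i`. -/
def sh : (Option ι → A) →ₗ[A] (ι → A) where
  toFun a := fun i => a (some i) + a none * c i
  map_add' a b := by ext i; simp only [Pi.add_apply]; ring
  map_smul' r a := by ext i; simp only [Pi.smul_apply, smul_eq_mul, RingHom.id_apply]; ring

variable {x y c} (hy : y = ∑ i, c i * x i)

theorem sh_apply (a : Option ι → A) (i : ι) : sh c a i = a (some i) + a none * c i := rfl

include hy in
theorem mem_cyc_opt_iff (a : Option ι → A) : a ∈ cyc (opt x y) ↔ sh c a ∈ cyc x := by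
  rw [mem_cyc_opt, mem_cyc, hy]
  simp only [sh_apply, add_mul, Finset.sum_add_distrib, mul_assoc, ← Finset.mul_sum]
  rw [add_comm]

include hy in
/-- The shear of a trivial relation is a trivial relation. -/
theorem sh_bd {a : Option ι → A} (ha : a ∈ bd (opt x y)) : sh c a ∈ bd x := by
  have : (bd (opt x y)).map (sh c) ≤ bd x := by
    rw [bd, map_span_le]
    have hnone : ∀ i : ι, sh c (triv (opt x y) (some i) none) ∈ bd x := by
      intro i
      have : sh c (triv (opt x y) (some i) none) = ∑ j, c j • triv x i j := by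
        ext k
        simp only [sh_apply, triv, opt, Pi.sub_apply, Option.elim, Finset.sum_apply, Pi.smul_apply,
          smul_eq_mul, Pi.single_apply, reduceCtorEq, if_false, if_true, Option.some.injEq, hy,
          mul_sub, Finset.sum_sub_distrib, mul_ite, mul_zero, Finset.sum_ite_eq, Finset.mem_univ,
          zero_sub, sub_zero, neg_mul]
        rcases eq_or_ne k i with rfl | h
        · simp [mul_comm]
          ring
        · simp [h, mul_comm]
      rw [this]
      exact sum_mem fun j _ => smul_mem _ _ (triv_mem_bd _ _ _)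
    rintro _ ⟨i, j, rfl⟩
    rcases i with _ | i <;> rcases j with _ | j
    · have : triv (opt x y) none none = 0 := by simp [triv]
      rw [this, map_zero]; exact zero_mem _
    · have : triv (opt x y) none (some j) = - triv (opt x y) (some j) none := by simp [triv]
      rw [this, map_neg]; exact neg_mem (hnone j)
    · exact hnone i
    · have : sh c (triv (opt x y) (some i) (some j)) = triv x i j := by
        ext k
        simp [sh_apply, triv, opt, Pi.single_apply]
      rw [this]
      exact triv_mem_bd _ _ _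
  exact this (mem_map_of_mem ha)

/-- The last coordinate of a trivial relation is in the ideal generated by `x`. -/
theorem none_bd {a : Option ι → A} (ha : a ∈ bd (opt x y)) :
    a none ∈ Ideal.span (Set.range x) := by
  have : (bd (opt x y)).map (LinearMap.proj (R := A) (φ := fun _ : Option ι => A) none) ≤
      Ideal.span (Set.range x) := by
    rw [bd, map_span_le]
    rintro _ ⟨i, j, rfl⟩
    rcases i with _ | i <;> rcases j with _ | j
    · simp [triv]
    · simp only [LinearMap.proj_apply, triv, opt, Pi.sub_apply, Pi.single_apply, Option.elim,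
        reduceCtorEq, if_false, if_true, sub_zero]
      exact subset_span ⟨j, rfl⟩
    · simp only [LinearMap.proj_apply, triv, opt, Pi.sub_apply, Pi.single_apply, Option.elim,
        reduceCtorEq, if_false, if_true, zero_sub]
      exact neg_mem (subset_span ⟨i, rfl⟩)
    · simp [triv, opt, Pi.single_apply]
  exact this (mem_map_of_mem ha)

/-- Unshear. -/
theorem sh_ext0 (a : ι → A) (b : A) : sh c (ext0 (a - b • c) b) = a := by
  ext i
  simp [sh_apply, ext0]

theorem bd_le_bd_opt {a : ι → A} (ha : a ∈ bd x) : ext0 a 0 ∈ bd (opt x y) := by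
  let L : (ι → A) →ₗ[A] (Option ι → A) :=
    { toFun := fun a => ext0 a 0
      map_add' := fun a b => by ext (_ | i) <;> simp [ext0]
      map_smul' := fun r a => by ext (_ | i) <;> simp [ext0] }
  have : (bd x).map L ≤ bd (opt x y) := by
    rw [bd, map_span_le]
    rintro _ ⟨i, j, rfl⟩
    have : L (triv x i j) = triv (opt x y) (some i) (some j) := by
      ext (_ | k)
      · simp [L, ext0, triv, Pi.single_apply]
      · simp [L, ext0, triv, opt, Pi.single_apply]
    rw [this]
    exact triv_mem_bd _ _ _
  exact this (mem_map_of_mem ha)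

include hy in
theorem Gen.up {r : ℕ} (h : Gen x r) : Gen (opt x y) (r + 1) := by
  obtain ⟨s, hs, hle⟩ := h
  refine ⟨Fin.cons (ext0 (-c) 1) (fun l => ext0 (s l) 0), ?_, ?_⟩
  · intro l
    refine Fin.cases ?_ (fun l => ?_) l
    · rw [Fin.cons_zero, mem_cyc_opt_iff hy]
      have : sh c (ext0 (-c) 1) = 0 := by ext i; simp [sh_apply, ext0]
      rw [this]; exact zero_mem _
    · rw [Fin.cons_succ, mem_cyc_opt_iff hy]
      have : sh c (ext0 (s l) 0) = s l := by ext i; simp [sh_apply, ext0]
      rw [this]; exact hs l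
  · intro a ha
    rw [mem_cyc_opt_iff hy] at ha
    obtain ⟨b, hb, d, hd, hbd⟩ := mem_sup.1 (hle ha)
    have h1 : a = ext0 b 0 + (ext0 d 0 + a none • ext0 (-c) 1) := by
      ext (_ | i)
      · simp [ext0]
      · have := congrFun hbd i
        simp only [Pi.add_apply, sh_apply] at this
        simp only [ext0, Pi.add_apply, Option.elim, Pi.smul_apply, smul_eq_mul, Pi.neg_apply]
        linear_combination - this
    rw [h1]
    refine add_mem (mem_sup_left (bd_le_bd_opt hb)) (mem_sup_right (add_mem ?_ ?_))
    · let L : (ι → A) →ₗ[A] (Option ι → A) :=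
        { toFun := fun a => ext0 a 0
          map_add' := fun a b => by ext (_ | i) <;> simp [ext0]
          map_smul' := fun r a => by ext (_ | i) <;> simp [ext0] }
      have h2 : L d ∈ (span A (Set.range s)).map L := mem_map_of_mem hd
      rw [map_span, ← Set.range_comp] at h2
      refine span_mono ?_ h2
      rintro _ ⟨l, rfl⟩
      exact ⟨l.succ, by rw [Fin.cons_succ]; rfl⟩
    · exact smul_mem _ _ (subset_span ⟨0, by rw [Fin.cons_zero]⟩)

include hy in
theorem exists_isUnit_of_le [IsLocalRing A] (hx : ∀ i, x i ∈ IsLocalRing.maximalIdeal A) {r : ℕ}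
    {s : Fin r → Option ι → A}
    (hle : cyc (opt x y) ≤ bd (opt x y) ⊔ span A (Set.range s)) : ∃ l, IsUnit (s l none) := by
  have hm : Ideal.span (Set.range x) ≤ IsLocalRing.maximalIdeal A := by
    rw [Ideal.span_le]
    rintro _ ⟨i, rfl⟩
    exact hx i
  by_contra hcon
  push Not at hcon
  have h1 : (ext0 (-c) 1 : Option ι → A) ∈ cyc (opt x y) := by
    rw [mem_cyc_opt_iff hy]
    have : sh c (ext0 (-c) 1) = 0 := by ext i; simp [sh_apply, ext0]
    rw [this]; exact zero_mem _
  obtain ⟨b, hb, d, hd, hbd⟩ := mem_sup.1 (hle h1)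
  have h2 : d none ∈ IsLocalRing.maximalIdeal A := by
    have h3 : (span A (Set.range s)).map
        (LinearMap.proj (R := A) (φ := fun _ : Option ι => A) none) ≤
        IsLocalRing.maximalIdeal A := by
      rw [map_span_le]
      rintro _ ⟨l, rfl⟩
      exact (IsLocalRing.mem_maximalIdeal _).2 (hcon l)
    exact h3 (mem_map_of_mem hd)
  have h4 : (1 : A) ∈ IsLocalRing.maximalIdeal A := by
    have := congrFun hbd none
    simp only [Pi.add_apply, ext0, Option.elim] at this
    rw [← this]
    exact add_mem (hm (none_bd hb)) h2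
  exact (Ideal.ne_top_iff_one _).1 (IsLocalRing.maximalIdeal.isMaximal A).ne_top h4

include hy in
theorem not_gen_zero [IsLocalRing A] (hx : ∀ i, x i ∈ IsLocalRing.maximalIdeal A) :
    ¬ Gen (opt x y) 0 := by
  rintro ⟨s, -, hle⟩
  obtain ⟨l, -⟩ := exists_isUnit_of_le hy hx hle
  exact l.elim0

include hy in
theorem Gen.down [IsLocalRing A] (hx : ∀ i, x i ∈ IsLocalRing.maximalIdeal A) {r : ℕ}
    (h : Gen (opt x y) (r + 1)) : Gen x r := by
  obtain ⟨s, hs, hle⟩ := h
  obtain ⟨l0, u, hu⟩ := exists_isUnit_of_le hy hx hle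
  -- normalise the other generators
  let t : Fin r → ι → A := fun l => sh c (s (l0.succAbove l) - (s (l0.succAbove l) none * (↑u⁻¹ : A)) • s l0)
  refine ⟨t, fun l => ?_, fun a ha => ?_⟩
  · rw [← mem_cyc_opt_iff hy]
    exact sub_mem (hs _) (smul_mem _ _ (hs _))
  · have h1 : ext0 a 0 ∈ cyc (opt x y) := by
      rw [mem_cyc_opt_iff hy]
      have : sh c (ext0 a 0) = a := by ext i; simp [sh_apply, ext0]
      rwa [this]
    obtain ⟨b, hb, d, hd, hbd⟩ := mem_sup.1 (hle h1)
    obtain ⟨w, hw⟩ := (mem_span_range_iff_exists_fun A).1 hd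
    -- `d = ∑ w_l s_l = ∑_{l ≠ l0} w_l (s_l - ..) + W s_{l0}`
    let W : A := d none * (↑u⁻¹ : A)
    have hW : W ∈ Ideal.span (Set.range x) := by
      have h2 : d none = - b none := by
        have := congrFun hbd none
        simp only [Pi.add_apply, ext0, Option.elim] at this
        exact eq_neg_of_add_eq_zero_right this
      exact Ideal.mul_mem_right _ _ (h2 ▸ neg_mem (none_bd hb))
    have h3 : d = ∑ l, w (l0.succAbove l) • (s (l0.succAbove l) -
        (s (l0.succAbove l) none * (↑u⁻¹ : A)) • s l0) + W • s l0 := by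
      rw [← hw, Fin.sum_univ_succAbove _ l0]
      have h4 : W = w l0 + ∑ l, w (l0.succAbove l) * (s (l0.succAbove l) none * (↑u⁻¹ : A)) := by
        simp only [W]
        rw [← hw, Fin.sum_univ_succAbove _ l0]
        simp only [Pi.add_apply, Finset.sum_apply, Pi.smul_apply, smul_eq_mul, add_mul,
          Finset.sum_mul, mul_assoc]
        rw [← hu]
        simp
      rw [h4, add_smul, Finset.sum_smul]
      simp only [smul_sub, Finset.sum_sub_distrib, mul_smul]
      abel
    have h5 : a = sh c b + (∑ l, w (l0.succAbove l) • t l + W • sh c (s l0)) := by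
      have h6 : sh c (ext0 a 0) = a := by ext i; simp [sh_apply, ext0]
      rw [← h6, ← hbd, h3, map_add, map_add, map_sum, map_smul]
      simp only [map_smul]
      rfl
    rw [h5]
    refine add_mem (mem_sup_left (sh_bd hy hb)) (add_mem (mem_sup_right ?_) (mem_sup_left ?_))
    · exact sum_mem fun l _ => smul_mem _ _ (subset_span ⟨l, rfl⟩)
    · exact smul_mem_bd x ((mem_cyc_opt_iff hy _).1 (hs l0)) hW

end Step

section Transfer

/-- `ι ⊕ Fin (m+1) ≃ Option (ι ⊕ Fin m)`. -/
def eqv (ι : Type*) (m : ℕ) : Option (ι ⊕ Fin m) ≃ ι ⊕ Fin (m + 1) where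
  toFun := fun o => o.elim (Sum.inr (Fin.last m)) (Sum.map id Fin.castSucc)
  invFun := Sum.elim (fun i => some (Sum.inl i))
    (fun j => Fin.lastCases (motive := fun _ => Option (ι ⊕ Fin m)) none
      (fun j => some (Sum.inr j)) j)
  left_inv := by
    rintro (_ | i | i)
    · simp
    · simp
    · simp
  right_inv := by
    rintro (i | i)
    · simp
    · refine Fin.lastCases ?_ (fun i => ?_) i
      · simp
      · simp

theorem elim_eqv (x : ι → A) (m : ℕ) (y : Fin (m + 1) → A) :
    Sum.elim x y ∘ eqv ι m = opt (Sum.elim x (fun j : Fin m => y j.castSucc)) (y (Fin.last m)) := by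
  ext (_ | i | i) <;> rfl

theorem opt_eqv (x : ι → A) (m : ℕ) (y : Fin (m + 1) → A) :
    opt (Sum.elim x (fun j : Fin m => y j.castSucc)) (y (Fin.last m)) ∘ (eqv ι m).symm = Sum.elim x y := by
  rw [← elim_eqv, Function.comp_assoc, Equiv.self_comp_symm, Function.comp_id]

theorem exists_coef (x : ι → A) (m : ℕ) (y : Fin m → A) {z : A}
    (hz : z ∈ Ideal.span (Set.range x)) :
    ∃ c : ι ⊕ Fin m → A, z = ∑ i, c i * Sum.elim x y i := by
  have hz : z ∈ Ideal.span (Set.range (Sum.elim x y)) := by
    refine Ideal.span_mono ?_ hz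
    rintro _ ⟨i, rfl⟩
    exact ⟨Sum.inl i, rfl⟩
  obtain ⟨c, hc⟩ := (Submodule.mem_span_range_iff_exists_fun A).1 hz
  exact ⟨c, by rw [← hc]; rfl⟩

theorem elim_mem [IsLocalRing A] (x : ι → A) (hx : ∀ i, x i ∈ IsLocalRing.maximalIdeal A)
    (m : ℕ) (y : Fin m → A) (hy : ∀ j, y j ∈ Ideal.span (Set.range x)) (i : ι ⊕ Fin m) :
    Sum.elim x y i ∈ IsLocalRing.maximalIdeal A := by
  have h1 : Ideal.span (Set.range x) ≤ IsLocalRing.maximalIdeal A := by
    rw [Ideal.span_le]
    rintro _ ⟨i, rfl⟩
    exact hx i
  rcases i with i | i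
  · exact hx i
  · exact h1 (hy _)

/-- Adding elements of the ideal. -/
theorem gen_sum_iff [IsLocalRing A] (x : ι → A) (hx : ∀ i, x i ∈ IsLocalRing.maximalIdeal A) :
    ∀ (m : ℕ) (y : Fin m → A) (_ : ∀ j, y j ∈ Ideal.span (Set.range x)) (r : ℕ),
      Gen (Sum.elim x y) (r + m) ↔ Gen x r := by
  intro m
  induction m with
  | zero =>
    intro y hy r
    constructor
    · intro h
      refine Gen.equiv (Equiv.sumEmpty ι (Fin 0)) (x := x) ?_
      have : x ∘ (Equiv.sumEmpty ι (Fin 0)) = Sum.elim x y := by
        ext (i | i)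
        · rfl
        · exact i.elim0
      rw [this]
      exact h
    · intro h
      refine Gen.equiv (Equiv.sumEmpty ι (Fin 0)).symm ?_
      have : Sum.elim x y ∘ (Equiv.sumEmpty ι (Fin 0)).symm = x := by
        ext i
        rfl
      rw [this]
      exact h
  | succ m ih =>
    intro y hy r
    obtain ⟨c, hc'⟩ := exists_coef x m (fun j : Fin m => y j.castSucc) (hy (Fin.last m))
    have hm := elim_mem x hx m (fun j : Fin m => y j.castSucc) (fun j => hy _)
    rw [← ih (fun j : Fin m => y j.castSucc) (fun j => hy _) r]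
    constructor
    · intro h
      refine Gen.down hc' hm (r := r + m) ?_
      refine Gen.equiv (eqv ι m).symm ?_
      rw [opt_eqv]
      exact h
    · intro h
      refine Gen.equiv (eqv ι m) ?_
      rw [elim_eqv]
      exact Gen.up hc' h

/-- Lower bound for the number of generators. -/
theorem le_of_gen_sum [IsLocalRing A] (x : ι → A) (hx : ∀ i, x i ∈ IsLocalRing.maximalIdeal A) :
    ∀ (m : ℕ) (y : Fin m → A) (_ : ∀ j, y j ∈ Ideal.span (Set.range x)) (r : ℕ),
      Gen (Sum.elim x y) r → m ≤ r := by
  intro m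
  induction m with
  | zero => intro y hy r _; exact Nat.zero_le _
  | succ m ih =>
    intro y hy r h
    obtain ⟨c, hc'⟩ := exists_coef x m (fun j : Fin m => y j.castSucc) (hy (Fin.last m))
    have hm := elim_mem x hx m (fun j : Fin m => y j.castSucc) (fun j => hy _)
    have h1 : Gen (opt (Sum.elim x (fun j : Fin m => y j.castSucc)) (y (Fin.last m))) r := by
      refine Gen.equiv (eqv ι m).symm ?_
      rw [opt_eqv]
      exact h
    rcases r with _ | r
    · exact absurd h1 (not_gen_zero hc' hm)
    · exact Nat.succ_le_succ (ih (fun j : Fin m => y j.castSucc) (fun j => hy _) r (Gen.down hc' hm h1))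

/-- Two finite families in the maximal ideal generating the same ideal. -/
theorem gen_transfer [IsLocalRing A] {n m : ℕ} (x : Fin n → A) (y : Fin m → A)
    (hx : ∀ i, x i ∈ IsLocalRing.maximalIdeal A)
    (hxy : Ideal.span (Set.range x) = Ideal.span (Set.range y)) {r r' : ℕ} (h : r + m = r' + n)
    (hr : Gen x r) : Gen y r' := by
  have hy : ∀ i, y i ∈ IsLocalRing.maximalIdeal A := by
    have h1 : Ideal.span (Set.range x) ≤ IsLocalRing.maximalIdeal A := by
      rw [Ideal.span_le]
      rintro _ ⟨i, rfl⟩
      exact hx i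
    intro i
    exact h1 (hxy ▸ Ideal.subset_span ⟨i, rfl⟩)
  have h1 := (gen_sum_iff x hx m y (fun j => hxy ▸ Ideal.subset_span ⟨j, rfl⟩) r).2 hr
  refine (gen_sum_iff y hy n x (fun j => hxy ▸ Ideal.subset_span ⟨j, rfl⟩) r').1 ?_
  rw [← h]
  refine Gen.equiv (Equiv.sumComm (Fin n) (Fin m)) ?_
  have : Sum.elim y x ∘ Equiv.sumComm (Fin n) (Fin m) = Sum.elim x y := by
    ext (i | i) <;> rfl
  rw [this]
  exact h1

end Transfer

end Groth.Agent.Sga2lef.H76.KosGen
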