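import Groth.Agent.Sga2lef.H76.KosGen
import Groth.Agent.Ega4dB.KoszulReg
import Groth.Agent.Models.TorRel

/-!
# Presentations of a local ring as a quotient of regular local rings

`exists_generators`: if `B → A`, `B' → A` are surjections from regular local rings of dimensions `e`, `e'`
and `ker (B → A)` is generated by `q` elements, then `ker (B' → A)` is generated by at most `q + e' - e`
elements (`dim B - μ(I)` does not depend on the presentation).
-/

set_option autoImplicit false
set_option linter.unusedSectionVars false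
universe u

namespace Groth.Agent.Sga2lef.H76.RegPres

open Submodule KosGen IsLocalRing

/-- A regular local ring has a system of `dim B` parameters with only trivial relations. -/
theorem exists_params (B : Type u) [CommRing B] [IsRegularLocalRing B] (e : ℕ)
    (he : ringKrullDim B = e) : ∃ x : Fin e → B, Ideal.span (Set.range x) = maximalIdeal B ∧
      cyc x ≤ bd x := by
  classical
  have hfg := (maximalIdeal B).fg_of_isNoetherianRing
  have hfin := Submodule.FG.finite_generators hfg
  let rs : List B := hfin.toFinset.toList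
  have hl : rs.length = (maximalIdeal B).spanFinrank := by
    have h1 : (maximalIdeal B).generators.ncard = (maximalIdeal B).spanFinrank :=
      Submodule.FG.generators_ncard hfg
    rw [Finset.length_toList, ← h1, Set.ncard_eq_toFinset_card _ hfin]
  have hspan : Ideal.ofList rs = maximalIdeal B := by
    have h1 : {x | x ∈ rs} = (maximalIdeal B).generators := by
      ext x
      simp [rs]
    rw [Ideal.ofList, h1]
    exact Submodule.span_generators _
  have hreg := Groth.Agent.CalgA.RegBasic.isRegular_of_ofList_eq _ B rs hl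
    (IsRegularLocalRing.spanFinrank_maximalIdeal (R := B)).symm hspan
  have hle : rs.length = e := by
    have h1 := IsRegularLocalRing.spanFinrank_maximalIdeal (R := B)
    rw [he] at h1
    rw [hl]
    exact_mod_cast h1
  subst hle
  refine ⟨rs.get, ?_, ?_⟩
  · rw [← hspan, Ideal.ofList]
    congr 1
    ext x
    rw [Set.mem_range, Set.mem_ofPred_eq, List.mem_iff_get]
  · intro a ha
    have h1 := Groth.Agent.Ega4dB.KoszulReg.koszulH1Zero_of_isWeaklyRegular rs.get B
      (by rw [List.ofFn_get]; exact hreg.toIsWeaklyRegular)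
    have h2 := h1 a (by
      rw [mem_cyc] at ha
      rw [← ha]
      exact Finset.sum_congr rfl fun i _ => by rw [smul_eq_mul, mul_comm])
    refine span_le.2 ?_ h2
    rintro _ ⟨i, j, y, rfl⟩
    have h3 : rs.get j • (Pi.single i y : Fin rs.length → B) - rs.get i • (Pi.single j y : Fin rs.length → B)
        = y • triv rs.get i j := by
      rw [triv, smul_sub, ← Pi.single_smul, ← Pi.single_smul, ← Pi.single_smul, ← Pi.single_smul]
      simp only [smul_eq_mul, mul_comm]
    rw [h3]
    exact smul_mem _ _ (triv_mem_bd _ _ _)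

section

variable {A B : Type u} [CommRing A] [IsLocalRing A] [CommRing B] [IsLocalRing B]
  (φ : B →+* A) (hφ : Function.Surjective φ) {n : ℕ} (x : Fin n → B)
  (hx : Ideal.span (Set.range x) = maximalIdeal B)

include hφ in
theorem span_comp : Ideal.span (Set.range (φ ∘ x)) = (Ideal.span (Set.range x)).map φ := by
  rw [Ideal.map_span, Set.range_comp]

include hφ hx in
theorem span_maximal : Ideal.span (Set.range (φ ∘ x)) = maximalIdeal A := by
  rw [span_comp φ hφ x, hx]
  have : IsLocalHom φ := hφ.isLocalHom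
  refine le_antisymm (Ideal.map_le_iff_le_comap.2 (IsLocalRing.local_hom_TFAE φ |>.out 0 3 |>.1 this)) ?_
  intro a ha
  obtain ⟨b, rfl⟩ := hφ a
  refine Ideal.mem_map_of_mem _ ?_
  rw [mem_maximalIdeal, mem_nonunits_iff] at ha ⊢
  exact fun h => ha (h.map φ)

theorem map_triv (i j : Fin n) : φ ∘ triv x i j = triv (φ ∘ x) i j := by
  ext k
  simp only [triv, Function.comp_apply, Pi.sub_apply, map_sub, Pi.single_apply]
  split_ifs <;> simp

theorem map_bd {a : Fin n → B} (ha : a ∈ bd x) : φ ∘ a ∈ bd (φ ∘ x) := by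
  induction ha using span_induction with
  | mem a h =>
    obtain ⟨i, j, rfl⟩ := h
    rw [map_triv]
    exact triv_mem_bd _ _ _
  | zero =>
    have : φ ∘ (0 : Fin n → B) = 0 := by ext; simp
    rw [this]; exact zero_mem _
  | add a b _ _ ha hb =>
    have : φ ∘ (a + b) = φ ∘ a + φ ∘ b := by ext; simp
    rw [this]; exact add_mem ha hb
  | smul r a _ ha =>
    have : φ ∘ (r • a) = φ r • (φ ∘ a) := by ext; simp
    rw [this]; exact smul_mem _ _ ha

include hφ hx in
/-- Generators of the kernel give generators of the relations. -/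
theorem gen_of_ker (hc : cyc x ≤ bd x) {q : ℕ} (s : Fin q → B)
    (hs : Ideal.span (Set.range s) = RingHom.ker φ) : Gen (φ ∘ x) q := by
  have hker : RingHom.ker φ ≤ maximalIdeal B := IsLocalRing.le_maximalIdeal (RingHom.ker_ne_top φ)
  have h1 : ∀ l, ∃ c : Fin n → B, ∑ i, c i * x i = s l := by
    intro l
    have h2 : s l ∈ Ideal.span (Set.range x) := by
      rw [hx]
      exact hker (hs ▸ subset_span ⟨l, rfl⟩)
    obtain ⟨c, hc⟩ := (Submodule.mem_span_range_iff_exists_fun B).1 h2
    exact ⟨c, by rw [← hc]; rfl⟩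
  choose c hc' using h1
  refine ⟨fun l => φ ∘ c l, fun l => ?_, fun a ha => ?_⟩
  · have h3 : s l ∈ RingHom.ker φ := hs ▸ subset_span ⟨l, rfl⟩
    rw [RingHom.mem_ker, ← hc' l, map_sum] at h3
    rw [mem_cyc, ← h3]
    exact Finset.sum_congr rfl fun i _ => by simp
  · choose b hb using fun i => hφ (a i)
    have h3 : ∑ i, b i * x i ∈ Ideal.span (Set.range s) := by
      rw [hs, RingHom.mem_ker, map_sum]
      rw [mem_cyc] at ha
      rw [← ha]
      exact Finset.sum_congr rfl fun i _ => by simp [hb]
    obtain ⟨w, hw⟩ := (Submodule.mem_span_range_iff_exists_fun B).1 h3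
    have h4 : b - ∑ l, w l • c l ∈ cyc x := by
      rw [mem_cyc]
      simp only [Pi.sub_apply, Finset.sum_apply, Pi.smul_apply, smul_eq_mul, sub_mul,
        Finset.sum_sub_distrib]
      rw [← hw, sub_eq_zero]
      simp only [Finset.sum_mul, smul_eq_mul]
      rw [Finset.sum_comm]
      refine Finset.sum_congr rfl fun l _ => ?_
      rw [← hc' l, Finset.mul_sum]
      exact Finset.sum_congr rfl fun i _ => by ring
    have h5 := map_bd φ x (hc h4)
    have h6 : a = φ ∘ (b - ∑ l, w l • c l) + ∑ l, φ (w l) • (φ ∘ c l) := by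
      ext i
      simp [hb]
    rw [h6]
    exact add_mem (mem_sup_left h5)
      (mem_sup_right (sum_mem fun l _ => smul_mem _ _ (subset_span ⟨l, rfl⟩)))

include hφ hx in
/-- Generators of the relations give generators of the kernel. -/
theorem ker_of_gen [IsNoetherianRing B] {r : ℕ} (h : Gen (φ ∘ x) r) :
    ∃ s : Fin r → B, Ideal.span (Set.range s) = RingHom.ker φ := by
  have hker : RingHom.ker φ ≤ maximalIdeal B := IsLocalRing.le_maximalIdeal (RingHom.ker_ne_top φ)
  obtain ⟨σ, hσ, hle⟩ := h
  choose τ hτ using fun l i => hφ (σ l i)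
  have hs : ∀ l, ∑ i, τ l i * x i ∈ RingHom.ker φ := by
    intro l
    have := hσ l
    rw [mem_cyc] at this
    rw [RingHom.mem_ker, map_sum, ← this]
    exact Finset.sum_congr rfl fun i _ => by simp [hτ]
  refine ⟨fun l => ∑ i, τ l i * x i, le_antisymm ?_ ?_⟩
  · rw [Ideal.span_le]
    rintro _ ⟨l, rfl⟩
    exact hs l
  · refine Submodule.le_of_le_smul_of_le_jacobson_bot (I := maximalIdeal B)
      (IsNoetherian.noetherian _) (IsLocalRing.maximalIdeal_le_jacobson _) ?_
    intro t ht
    have h2 : t ∈ Ideal.span (Set.range x) := by rw [hx]; exact hker ht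
    obtain ⟨a, ha⟩ := (Submodule.mem_span_range_iff_exists_fun B).1 h2
    have ha' : ∑ i, a i * x i = t := by rw [← ha]; rfl
    have h3 : φ ∘ a ∈ cyc (φ ∘ x) := by
      rw [mem_cyc]
      have : φ t = 0 := ht
      rw [← ha', map_sum] at this
      rw [← this]
      exact Finset.sum_congr rfl fun i _ => by simp
    obtain ⟨β, hβ, δ, hδ, hβδ⟩ := mem_sup.1 (hle h3)
    obtain ⟨w, hw⟩ := (Submodule.mem_span_range_iff_exists_fun A).1 hδ
    choose v hv using fun l => hφ (w l)
    -- lift the trivial relation
    have h4 : ∃ β' ∈ bd x, φ ∘ β' = β := by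
      clear hβδ
      induction hβ using span_induction with
      | mem a h =>
        obtain ⟨i, j, rfl⟩ := h
        exact ⟨_, triv_mem_bd x i j, map_triv φ x i j⟩
      | zero => exact ⟨0, zero_mem _, by ext; simp⟩
      | add a b _ _ ha hb =>
        obtain ⟨a', h1, rfl⟩ := ha
        obtain ⟨b', h2, rfl⟩ := hb
        exact ⟨a' + b', add_mem h1 h2, by ext; simp⟩
      | smul r a _ ha =>
        obtain ⟨a', h1, rfl⟩ := ha
        obtain ⟨r', rfl⟩ := hφ r
        exact ⟨r' • a', smul_mem _ _ h1, by ext; simp⟩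
    obtain ⟨β', hβ', rfl⟩ := h4
    have h5 : ∀ i, a i - β' i - ∑ l, v l * τ l i ∈ RingHom.ker φ := by
      intro i
      rw [RingHom.mem_ker, map_sub, map_sub, map_sum]
      have h6 := congrFun hβδ i
      rw [← hw] at h6
      simp only [Pi.add_apply, Function.comp_apply, Finset.sum_apply, Pi.smul_apply,
        smul_eq_mul] at h6
      rw [← h6]
      simp [hv, hτ]
    have h7 : t = ∑ l, v l * (∑ i, τ l i * x i) +
        ∑ i, (a i - β' i - ∑ l, v l * τ l i) * x i := by
      have h8 : ∑ i, β' i * x i = 0 := bd_le_cyc x hβ'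
      simp only [sub_mul, Finset.sum_sub_distrib, h8, ha', sub_zero, Finset.mul_sum,
        Finset.sum_mul]
      rw [Finset.sum_comm (f := fun i l => v l * τ l i * x i)]
      simp only [mul_assoc]
      ring
    rw [h7]
    refine add_mem (mem_sup_left (sum_mem fun l _ => ?_)) (mem_sup_right (sum_mem fun i _ => ?_))
    · exact Ideal.mul_mem_left _ _ (subset_span ⟨l, rfl⟩)
    · rw [mul_comm]
      exact Submodule.smul_mem_smul (hx ▸ subset_span ⟨i, rfl⟩) (h5 i)

end

/-- **Independence of the presentation**: `dim B - μ(ker (B → A))` is the same for all surjections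
`B → A` from a regular local ring. -/
theorem exists_generators {A B B' : Type u} [CommRing A] [IsLocalRing A] [CommRing B]
    [IsRegularLocalRing B] [CommRing B'] [IsRegularLocalRing B'] (φ : B →+* A)
    (hφ : Function.Surjective φ) (φ' : B' →+* A) (hφ' : Function.Surjective φ')
    (s : Finset B) (hs : Ideal.span (s : Set B) = RingHom.ker φ) (e e' : ℕ)
    (he : ringKrullDim B = e) (he' : ringKrullDim B' = e') :
    ∃ t : Finset B', Ideal.span (t : Set B') = RingHom.ker φ' ∧ t.card + e ≤ s.card + e' := by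
  classical
  obtain ⟨x, hx, hc⟩ := exists_params B e he
  obtain ⟨y, hy, hd⟩ := exists_params B' e' he'
  have h1 : Gen (φ ∘ x) s.card := by
    refine gen_of_ker φ hφ x hx hc (fun l => (s.equivFin.symm l : B)) ?_
    rw [← hs]
    congr 1
    ext b
    constructor
    · rintro ⟨l, rfl⟩
      exact (s.equivFin.symm l).2
    · intro hb
      exact ⟨s.equivFin ⟨b, hb⟩, by simp⟩
  -- the number of generators downstairs
  have hxm : ∀ i, (φ ∘ x) i ∈ maximalIdeal A := fun i =>
    span_maximal φ hφ x hx ▸ Ideal.subset_span ⟨i, rfl⟩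
  have hym : ∀ i, (φ' ∘ y) i ∈ maximalIdeal A := fun i =>
    span_maximal φ' hφ' y hy ▸ Ideal.subset_span ⟨i, rfl⟩
  have hspan : Ideal.span (Set.range (φ ∘ x)) = Ideal.span (Set.range (φ' ∘ y)) := by
    rw [span_maximal φ hφ x hx, span_maximal φ' hφ' y hy]
  by_cases hlt : e ≤ s.card + e'
  · have h2 : Gen (φ' ∘ y) (s.card + e' - e) :=
      gen_transfer (φ ∘ x) (φ' ∘ y) hxm hspan (by omega) h1
    obtain ⟨t, ht⟩ := ker_of_gen φ' hφ' y hy h2
    refine ⟨Finset.univ.image t, ?_, ?_⟩
    · rw [Finset.coe_image, Finset.coe_univ, Set.image_univ, ht]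
    · have := Finset.card_image_le (s := (Finset.univ : Finset (Fin (s.card + e' - e)))) (f := t)
      rw [Finset.card_univ, Fintype.card_fin] at this
      omega
  · -- impossible : `Gen y 0` after adding
    exfalso
    have h3 := (gen_sum_iff (φ ∘ x) hxm e' (φ' ∘ y)
      (fun j => hspan ▸ Ideal.subset_span ⟨j, rfl⟩) s.card).2 h1
    have h4 : Gen (Sum.elim (φ' ∘ y) (φ ∘ x)) (s.card + e') := by
      refine Gen.equiv (Equiv.sumComm (Fin e) (Fin e')) ?_
      have : Sum.elim (φ' ∘ y) (φ ∘ x) ∘ Equiv.sumComm (Fin e) (Fin e') =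
          Sum.elim (φ ∘ x) (φ' ∘ y) := by
        ext (i | i) <;> rfl
      rw [this]
      exact h3
    exact hlt (le_of_gen_sum (φ' ∘ y) hym e (φ ∘ x)
      (fun j => hspan ▸ Ideal.subset_span ⟨j, rfl⟩) _ h4)

end Groth.Agent.Sga2lef.H76.RegPres
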